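import Groth.Prelude.Def_Formal2
import Groth.Agent.AlgzCohLib.Basic
import Groth.Agent.FormalCohLib.Completion
import Groth.Agent.FormalCohLib.Torsion

/-!
# Coherent formal modules for ideals with the same zero locus
-/

set_option autoImplicit false
universe u
open CategoryTheory CategoryTheory.Limits AlgebraicGeometry TopologicalSpace Opposite
open AlgzCohLib (IsModQuot)
open FormalLib (rhoA)

noncomputable section

namespace FormalEqLib

variable {A : Type u} [CommRing A] {X : Scheme.{u}} [X.Over (Spec (CommRingCat.of A))]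

/-- The structure map on points: membership in a zero locus. -/
theorem mem_preimage_zeroLocus_iff (I : Ideal A) (x : X) :
    x ∈ (fun x : X => (X ↘ Spec (CommRingCat.of A)) x) ⁻¹' PrimeSpectrum.zeroLocus (I : Set A) ↔
      ∀ a ∈ I, x ∉ X.basicOpen (Coh.toGlobal (X ↘ Spec (CommRingCat.of A)) a) := by
  have key : ∀ a : A, x ∈ X.basicOpen (Coh.toGlobal (X ↘ Spec (CommRingCat.of A)) a) ↔
      a ∉ ((X ↘ Spec (CommRingCat.of A)) x).asIdeal := fun a => by
    rw [show Coh.toGlobal (X ↘ Spec (CommRingCat.of A)) a = (X ↘ Spec (CommRingCat.of A)).appTop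
      ((Scheme.ΓSpecIso (CommRingCat.of A)).inv a) from rfl, ← Scheme.preimage_basicOpen_top]
    change (X ↘ Spec (CommRingCat.of A)) x ∈ (Spec (CommRingCat.of A)).basicOpen _ ↔ _
    rw [basicOpen_eq_of_affine']
    simp only [Iso.inv_hom_id_apply]
    exact PrimeSpectrum.mem_basicOpen _ _
  exact ⟨fun h a ha hm => (key a).mp hm (h ha), fun h a ha => by
    by_contra hn
    exact h a ha ((key a).mpr hn)⟩

/-- The ideals generated on an affine open have radicals containing each other. -/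
theorem map_le_radical {I J : Ideal A}
    (hV : ∀ x : X, x ∈ (fun x : X => (X ↘ Spec (CommRingCat.of A)) x) ⁻¹' PrimeSpectrum.zeroLocus (J : Set A) →
      x ∈ (fun x : X => (X ↘ Spec (CommRingCat.of A)) x) ⁻¹' PrimeSpectrum.zeroLocus (I : Set A))
    {U : X.Opens} (hU : IsAffineOpen U) : I.map (rhoA A U) ≤ (J.map (rhoA A U)).radical := by
  refine Ideal.map_le_iff_le_comap.mpr fun a ha => ?_
  rw [Ideal.mem_comap, Ideal.radical_eq_sInf, Ideal.mem_sInf]
  rintro q ⟨hJq, hq⟩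
  let z : PrimeSpectrum Γ(X, U) := ⟨q, hq⟩
  have hzU : hU.fromSpec z ∈ U := by
    rw [← SetLike.mem_coe, ← hU.range_fromSpec]; exact ⟨z, rfl⟩
  have hmem : ∀ b : A, hU.fromSpec z ∈ X.basicOpen (Coh.toGlobal (X ↘ Spec (CommRingCat.of A)) b) ↔
      rhoA A U b ∉ q := fun b => by
    have h1 : X.basicOpen (rhoA A U b) =
        U ⊓ X.basicOpen (Coh.toGlobal (X ↘ Spec (CommRingCat.of A)) b) := Scheme.basicOpen_res _ _ _
    have h2 : hU.fromSpec z ∈ X.basicOpen (rhoA A U b) ↔ rhoA A U b ∉ q := by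
      change z ∈ hU.fromSpec ⁻¹ᵁ X.basicOpen (rhoA A U b) ↔ _
      rw [hU.fromSpec_preimage_basicOpen]
      rfl
    rw [← h2, h1]
    exact ⟨fun h => ⟨hzU, h⟩, fun h => h.2⟩
  have h := (mem_preimage_zeroLocus_iff I _).mp (hV (hU.fromSpec z)
    ((mem_preimage_zeroLocus_iff J _).mpr fun b hb hm => (hmem b).mp hm (hJq (Ideal.mem_map_of_mem _ hb))))
  by_contra hn
  exact h a ha ((hmem a).mpr hn)

/-- A uniform exponent on a Noetherian scheme. -/
theorem exists_exp [IsNoetherian X] {I J : Ideal A}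
    (hV : ∀ x : X, x ∈ (fun x : X => (X ↘ Spec (CommRingCat.of A)) x) ⁻¹' PrimeSpectrum.zeroLocus (J : Set A) →
      x ∈ (fun x : X => (X ↘ Spec (CommRingCat.of A)) x) ⁻¹' PrimeSpectrum.zeroLocus (I : Set A)) :
    ∃ c : ℕ, 1 ≤ c ∧ ∀ (n : ℕ) (M : X.Modules), Coh.IsQCoh M → Formal.KilledBy (J ^ n) M →
      Formal.KilledBy (I ^ (c * n)) M := by
  obtain ⟨s, hs⟩ := isCompact_univ.elim_finite_subcover
    (fun W : X.affineOpens => ((W : X.Opens) : Set X)) (fun W => W.1.isOpen) fun z _ => by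
      obtain ⟨V, hV', hz, -⟩ := exists_isAffineOpen_mem_and_subset (x := z) (U := ⊤) trivial
      exact Set.mem_iUnion.mpr ⟨⟨V, hV'⟩, hz⟩
  have hloc : ∀ W : X.affineOpens, ∃ c, I.map (rhoA A W.1) ^ c ≤ J.map (rhoA A W.1) := fun W => by
    haveI : IsNoetherianRing Γ(X, W.1) := IsLocallyNoetherian.component_noetherian W
    exact Ideal.exists_pow_le_of_le_radical_of_fg (map_le_radical hV W.2) (IsNoetherian.noetherian _)
  choose c hc using hloc
  refine ⟨s.sup c + 1, Nat.le_add_left _ _, fun n M hM hk a ha => ?_⟩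
  refine HomCohLib.eq_zero_of_app _ (fun W : s => W.1.1) (fun W => W.1.2) (fun x => ?_) fun W t => ?_
  · obtain ⟨W, hW, hx⟩ := Set.mem_iUnion₂.mp (hs (Set.mem_univ x))
    exact ⟨⟨W, hW⟩, hx⟩
  · rw [FormalCohLib.smulMod_app]
    refine FormalCohLib.smul_eq_zero_of_killedBy hk ?_ t
    have h1 : rhoA A W.1.1 a ∈ (I ^ ((s.sup c + 1) * n)).map (rhoA A W.1.1) := Ideal.mem_map_of_mem _ ha
    rw [Ideal.map_pow] at h1 ⊢
    rw [pow_mul] at h1
    exact Ideal.pow_right_mono ((Ideal.pow_le_pow_right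
      ((Finset.le_sup W.2).trans (Nat.le_succ _))).trans (hc W.1)) n h1

section Reindex

variable (I J : Ideal A) (c : ℕ)

/-- The index of the source level. -/
def idx (n : ℕ) : ℕ := c * (n + 1) - 1

theorem idx_le (n : ℕ) : idx c n ≤ idx c (n + 1) :=
  Nat.sub_le_sub_right (Nat.mul_le_mul_left c (Nat.le_succ _)) 1

theorem le_idx (hc : 1 ≤ c) (n : ℕ) : n ≤ idx c n := by
  unfold idx; have := Nat.le_mul_of_pos_left (n + 1) hc; omega

theorem idx_succ (hc : 1 ≤ c) (n : ℕ) : idx c n + 1 = c * (n + 1) := by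
  unfold idx; have := Nat.le_mul_of_pos_left (n + 1) hc; omega

variable {I}

/-- `n ↦ G_{c(n+1)-1} / J^{n+1}`. -/
abbrev tObj (G : ℕᵒᵖ ⥤ X.Modules) (n : ℕ) : X.Modules :=
  Formal.modPow J (n + 1) (G.obj (op (idx c n)))

/-- The projections. -/
abbrev tπ (G : ℕᵒᵖ ⥤ X.Modules) (n : ℕ) : G.obj (op (idx c n)) ⟶ tObj J c G n :=
  Formal.modPowπ J (n + 1) _

theorem tTr_aux (G : ℕᵒᵖ ⥤ X.Modules) (n : ℕ) :
    Formal.smulFamily (J ^ (n + 1 + 1)) (G.obj (op (idx c (n + 1)))) ≫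
      (ARSys.tr G (idx_le c n) ≫ tπ J c G n) = 0 :=
  FormalCohLib.smulFamily_comp_eq_zero _ fun a ha =>
    FormalCohLib.killedBy_modPow (n + 1) _ a (Ideal.pow_le_pow_right (Nat.le_succ _) ha)

/-- Transition maps. -/
def tTr (G : ℕᵒᵖ ⥤ X.Modules) (n : ℕ) : tObj J c G (n + 1) ⟶ tObj J c G n :=
  cokernel.desc _ _ (tTr_aux J c G n)

/-- The reindexed system. -/
def tSys (G : ℕᵒᵖ ⥤ X.Modules) : ℕᵒᵖ ⥤ X.Modules :=
  Functor.ofOpSequence (X := tObj J c G) (tTr J c G)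

/-- The projections, with target the value of the system. -/
def tP (G : ℕᵒᵖ ⥤ X.Modules) (n : ℕ) : G.obj (op (idx c n)) ⟶ (tSys J c G).obj (op n) := tπ J c G n

instance epi_tP (G : ℕᵒᵖ ⥤ X.Modules) (n : ℕ) : Epi (tP J c G n) :=
  inferInstanceAs (Epi (cokernel.π _))

theorem smulMod_tP (G : ℕᵒᵖ ⥤ X.Modules) (n : ℕ) {a : A} (ha : a ∈ J ^ (n + 1)) :
    Formal.smulMod A _ a ≫ tP J c G n = 0 :=
  AlgzCohLib.smulMod_comp_eq_zero (FormalCohLib.killedBy_modPow _ _) _ ha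

theorem exists_tP_fac (G : ℕᵒᵖ ⥤ X.Modules) (n : ℕ) {T : X.Modules} (g : G.obj (op (idx c n)) ⟶ T)
    (hg : ∀ a ∈ J ^ (n + 1), Formal.smulMod A _ a ≫ g = 0) : ∃ g', tP J c G n ≫ g' = g :=
  ⟨cokernel.desc _ g ((AlgzCohLib.smulFamily_comp_eq_zero_iff _ _).2 hg), cokernel.π_desc _ _ _⟩

theorem tP_succ (G : ℕᵒᵖ ⥤ X.Modules) (n : ℕ) :
    tP J c G (n + 1) ≫ (tSys J c G).map (homOfLE (Nat.le_succ n)).op =
      ARSys.tr G (idx_le c n) ≫ tP J c G n := by
  have hs : (tSys J c G).map (homOfLE (Nat.le_succ n)).op = tTr J c G n :=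
    Functor.ofOpSequence_map_homOfLE_succ _ _
  exact (congrArg (tP J c G (n + 1) ≫ ·) hs).trans (cokernel.π_desc _ _ _)

theorem tπ_tr (G : ℕᵒᵖ ⥤ X.Modules) {n m : ℕ} (h : n ≤ m) (h' : idx c n ≤ idx c m) :
    tP J c G m ≫ (tSys J c G).map (homOfLE h).op = ARSys.tr G h' ≫ tP J c G n := by
  induction h with
  | refl =>
    rw [show homOfLE (le_refl n) = 𝟙 n from rfl, op_id, CategoryTheory.Functor.map_id, Category.comp_id,
      AlgzCohLib.tr_self, Category.id_comp]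
  | @step m hm ih =>
    have e : (homOfLE (Nat.le_succ_of_le hm)).op = (homOfLE (Nat.le_succ m)).op ≫ (homOfLE hm).op := rfl
    have h1 : idx c n ≤ idx c m := Nat.sub_le_sub_right (Nat.mul_le_mul_left c (Nat.succ_le_succ hm)) 1
    rw [e, Functor.map_comp, ← Category.assoc]
    refine (congrArg (· ≫ _) (tP_succ J c G m)).trans ?_
    rw [Category.assoc, ih h1, ← Category.assoc, AlgzCohLib.tr_comp]

variable {J}

theorem isCoh_tObj [IsNoetherian X] {G : ℕᵒᵖ ⥤ X.Modules} (hG : Formal.IsCohFormal I G) (n : ℕ) :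
    Coh.IsCoh (tObj J c G n) := FormalCohLib.isCoh_modPow J (hG.1 _) _

/-- The composite projections are quotients by `J^(n+1)`. -/
theorem isModQuot_comp {G : ℕᵒᵖ ⥤ X.Modules} (hG : Formal.IsCohFormal I G) (hc1 : 1 ≤ c)
    (hc : ∀ (n : ℕ) (M : X.Modules), Coh.IsQCoh M → Formal.KilledBy (J ^ n) M →
      Formal.KilledBy (I ^ (c * n)) M)
    [IsNoetherian X] {n N : ℕ} (h : idx c n ≤ N) :
    IsModQuot (J ^ (n + 1)) (ARSys.tr G h ≫ tP J c G n) := by
  have ht := AlgzCohLib.tr_isModQuot hG h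
  refine ⟨fun a ha => AlgzCohLib.smulMod_comp_eq_zero (FormalCohLib.killedBy_modPow _ _) _ ha,
    (have := ht.epi; epi_comp _ _), fun T g hg => ?_⟩
  -- `g` factors through the quotient by `J^(n+1)`, which is killed by `I^(c(n+1))`
  let q := Formal.modPowπ J (n + 1) (G.obj (op N))
  let g' : Formal.modPow J (n + 1) (G.obj (op N)) ⟶ T :=
    cokernel.desc _ g ((AlgzCohLib.smulFamily_comp_eq_zero_iff _ _).2 hg)
  have hQ : Formal.KilledBy (I ^ (idx c n + 1)) (Formal.modPow J (n + 1) (G.obj (op N))) := by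
    rw [idx_succ c hc1]
    exact hc _ _ (FormalCohLib.isCoh_modPow J (hG.1 _) _).1 (FormalCohLib.killedBy_modPow _ _)
  obtain ⟨g₁, hg₁⟩ := ht.factor T g fun a ha => by
    rw [show g = q ≫ g' from (cokernel.π_desc _ _ _).symm, ← Category.assoc,
      AlgzCohLib.smulMod_comp_eq_zero hQ q ha, zero_comp]
  have := ht.epi
  obtain ⟨g₂, hg₂⟩ := exists_tP_fac J c G n g₁ fun a ha => by
    rw [← cancel_epi (ARSys.tr G h), comp_zero, ← Category.assoc, AlgzCohLib.smulMod_naturality,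
      Category.assoc, hg₁, hg a ha]
  exact ⟨g₂, by rw [Category.assoc, hg₂, hg₁]⟩

theorem isCohFormal_tSys [IsNoetherian X] {G : ℕᵒᵖ ⥤ X.Modules} (hG : Formal.IsCohFormal I G) (hc1 : 1 ≤ c)
    (hc : ∀ (n : ℕ) (M : X.Modules), Coh.IsQCoh M → Formal.KilledBy (J ^ n) M →
      Formal.KilledBy (I ^ (c * n)) M) :
    Formal.IsCohFormal J (tSys J c G) := by
  refine ⟨fun n => isCoh_tObj c hG n, fun n => FormalCohLib.killedBy_modPow _ _, fun n => ?_⟩
  let t := (tSys J c G).map (homOfLE (Nat.le_succ n)).op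
  have e : tP J c G (n + 1) ≫ t = ARSys.tr G (idx_le c n) ≫ tP J c G n := tπ_tr J c G _ _
  have hq := isModQuot_comp c hG hc1 hc (idx_le c n)
  have h0 : Formal.smulFamily (J ^ (n + 1)) ((tSys J c G).obj (op (n + 1))) ≫ t = 0 :=
    FormalCohLib.smulFamily_comp_eq_zero _ (FormalCohLib.killedBy_modPow _ _)
  refine ⟨h0, ?_⟩
  obtain ⟨s, hs⟩ := hq.factor _ (tP J c G (n + 1) ≫ cokernel.π (Formal.smulFamily (J ^ (n + 1))
    ((tSys J c G).obj (op (n + 1))))) fun a ha => by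
      rw [← Category.assoc, ← AlgzCohLib.smulMod_naturality, Category.assoc]
      exact (congrArg _ ((AlgzCohLib.smulFamily_comp_eq_zero_iff _ _).1 (cokernel.condition _) a ha)).trans comp_zero
  have := hq.epi
  refine ⟨s, ?_, ?_⟩
  · refine coequalizer.hom_ext ?_
    show cokernel.π _ ≫ cokernel.desc _ t h0 ≫ s = cokernel.π _ ≫ 𝟙 _
    rw [cokernel.π_desc_assoc, Category.comp_id]
    apply (cancel_epi (tP J c G (n + 1))).1
    rw [← Category.assoc, e, hs]
  · show s ≫ cokernel.desc _ t h0 = 𝟙 _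
    apply (cancel_epi (ARSys.tr G (idx_le c n) ≫ tP J c G n)).1
    rw [← Category.assoc, hs, Category.assoc, cokernel.π_desc, Category.comp_id]
    exact e

end Reindex

end FormalEqLib

end
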