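import Groth.Agent.FormalEqLib.Basic

/-!
# The equivalence of categories of coherent formal modules
-/

set_option autoImplicit false
universe u
open CategoryTheory CategoryTheory.Limits AlgebraicGeometry TopologicalSpace Opposite
open AlgzCohLib (IsModQuot)

noncomputable section

namespace FormalEqLib

variable {A : Type u} [CommRing A] {X : Scheme.{u}} [X.Over (Spec (CommRingCat.of A))]
variable (J : Ideal A) (c : ℕ)

theorem tMapApp_aux {G H : ℕᵒᵖ ⥤ X.Modules} (α : G ⟶ H) (n : ℕ) :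
    Formal.smulFamily (J ^ (n + 1)) (G.obj (op (idx c n))) ≫
      (α.app (op (idx c n)) ≫ tP J c H n) = 0 :=
  FormalCohLib.smulFamily_comp_eq_zero _ (FormalCohLib.killedBy_modPow _ _)

/-- A component of the induced morphism. -/
def tMapApp {G H : ℕᵒᵖ ⥤ X.Modules} (α : G ⟶ H) (n : ℕ) :
    (tSys J c G).obj (op n) ⟶ (tSys J c H).obj (op n) :=
  cokernel.desc _ _ (tMapApp_aux J c α n)

theorem tP_tMapApp {G H : ℕᵒᵖ ⥤ X.Modules} (α : G ⟶ H) (n : ℕ) :
    tP J c G n ≫ tMapApp J c α n = α.app (op (idx c n)) ≫ tP J c H n :=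
  cokernel.π_desc _ _ _

theorem idx_mono : Monotone (idx c) := fun _ _ h =>
  Nat.sub_le_sub_right (Nat.mul_le_mul_left c (Nat.succ_le_succ h)) 1

/-- The induced morphism. -/
def tMap {G H : ℕᵒᵖ ⥤ X.Modules} (α : G ⟶ H) : tSys J c G ⟶ tSys J c H where
  app n := tMapApp J c α n.unop
  naturality := fun i j f => by
    obtain ⟨m⟩ := i
    obtain ⟨n⟩ := j
    have hf : f = (homOfLE (leOfHom f.unop)).op := Quiver.Hom.unop_inj (Subsingleton.elim _ _)
    generalize leOfHom f.unop = hle at hf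
    subst hf
    rw [← cancel_epi (tP J c G m), ← Category.assoc, tπ_tr J c G hle (idx_mono c hle), Category.assoc,
      tP_tMapApp, reassoc_of% (tP_tMapApp J c α m), tπ_tr J c H hle (idx_mono c hle)]
    exact (α.naturality_assoc _ _)

theorem tMap_app {G H : ℕᵒᵖ ⥤ X.Modules} (α : G ⟶ H) (n : ℕ) :
    tP J c G n ≫ (tMap J c α).app (op n) = α.app (op (idx c n)) ≫ tP J c H n :=
  tP_tMapApp J c α n

theorem tSys_hom_ext {G K : ℕᵒᵖ ⥤ X.Modules} {β β' : tSys J c G ⟶ K}
    (h : ∀ n, tP J c G n ≫ β.app (op n) = tP J c G n ≫ β'.app (op n)) : β = β' := by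
  ext ⟨n⟩ : 2
  exact (cancel_epi (tP J c G n)).1 (h n)

theorem tMap_id (G : ℕᵒᵖ ⥤ X.Modules) : tMap J c (𝟙 G) = 𝟙 _ := tSys_hom_ext J c fun n => by
  rw [tMap_app, NatTrans.id_app, NatTrans.id_app, Category.id_comp, Category.comp_id]

theorem tMap_comp {G H K : ℕᵒᵖ ⥤ X.Modules} (α : G ⟶ H) (β : H ⟶ K) :
    tMap J c (α ≫ β) = tMap J c α ≫ tMap J c β := tSys_hom_ext J c fun n => by
  rw [tMap_app, NatTrans.comp_app, NatTrans.comp_app, reassoc_of% (tMap_app J c α n), tMap_app,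
    Category.assoc]

variable {J} [IsNoetherian X] {I : Ideal A}

/-- The functor between categories of coherent formal modules. -/
def tFunctor (hc1 : 1 ≤ c) (hc : ∀ (n : ℕ) (M : X.Modules), Coh.IsQCoh M → Formal.KilledBy (J ^ n) M →
      Formal.KilledBy (I ^ (c * n)) M) :
    Formal2.CohFormalCat I X ⥤ Formal2.CohFormalCat J X where
  obj G := ⟨tSys J c G.obj, isCohFormal_tSys c G.property hc1 hc⟩
  map α := ObjectProperty.homMk (tMap J c α.hom)
  map_id G := ObjectProperty.hom_ext _ (tMap_id J c G.obj)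
  map_comp α β := ObjectProperty.hom_ext _ (tMap_comp J c α.hom β.hom)

variable {c} {c' : ℕ}

/-- The composite projection to the twice reindexed system. -/
def qq (J : Ideal A) (c c' : ℕ) (I : Ideal A) (G : ℕᵒᵖ ⥤ X.Modules) (n : ℕ) :
    G.obj (op (idx c (idx c' n))) ⟶ (tSys I c' (tSys J c G)).obj (op n) :=
  tP J c G (idx c' n) ≫ tP I c' (tSys J c G) n

instance epi_qq (J : Ideal A) (c c' : ℕ) (I : Ideal A) (G : ℕᵒᵖ ⥤ X.Modules) (n : ℕ) :
    Epi (qq J c c' I G n) := epi_comp _ _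

theorem qq_isModQuot (hc1' : 1 ≤ c') (hc' : ∀ (n : ℕ) (M : X.Modules), Coh.IsQCoh M →
      Formal.KilledBy (I ^ n) M → Formal.KilledBy (J ^ (c' * n)) M)
    {G : ℕᵒᵖ ⥤ X.Modules} (hG : Formal.IsCohFormal I G) (n : ℕ) :
    IsModQuot (I ^ (n + 1)) (qq J c c' I G n) := by
  refine ⟨fun a ha => AlgzCohLib.smulMod_comp_eq_zero (FormalCohLib.killedBy_modPow _ _) _ ha,
    inferInstance, fun T g hg => ?_⟩
  let q := Formal.modPowπ I (n + 1) (G.obj (op (idx c (idx c' n))))
  let g' : Formal.modPow I (n + 1) (G.obj (op (idx c (idx c' n)))) ⟶ T :=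
    cokernel.desc _ g ((AlgzCohLib.smulFamily_comp_eq_zero_iff _ _).2 hg)
  have hQ : Formal.KilledBy (J ^ (idx c' n + 1)) (Formal.modPow I (n + 1) (G.obj (op (idx c (idx c' n))))) := by
    rw [idx_succ c' hc1']
    exact hc' _ _ (FormalCohLib.isCoh_modPow I (hG.1 _) _).1 (FormalCohLib.killedBy_modPow _ _)
  obtain ⟨g₁, hg₁⟩ := exists_tP_fac J c G (idx c' n) g fun a ha => by
    rw [show g = q ≫ g' from (cokernel.π_desc _ _ _).symm, ← Category.assoc,
      AlgzCohLib.smulMod_comp_eq_zero hQ q ha, zero_comp]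
  obtain ⟨g₂, hg₂⟩ := exists_tP_fac I c' (tSys J c G) n g₁ fun a ha => by
    rw [← cancel_epi (tP J c G (idx c' n)), comp_zero, ← Category.assoc, AlgzCohLib.smulMod_naturality,
      Category.assoc, hg₁, hg a ha]
  exact ⟨g₂, by rw [qq, Category.assoc, hg₂, hg₁]⟩

theorem qq_tr (G : ℕᵒᵖ ⥤ X.Modules) {n m : ℕ} (h : n ≤ m) :
    qq J c c' I G m ≫ (tSys I c' (tSys J c G)).map (homOfLE h).op =
      ARSys.tr G (idx_mono c (idx_mono c' h)) ≫ qq J c c' I G n := by
  rw [qq, qq, Category.assoc, tπ_tr I c' (tSys J c G) h (idx_mono c' h), ← Category.assoc, ← Category.assoc]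
  exact congrArg (· ≫ _) (tπ_tr J c G (idx_mono c' h) (idx_mono c (idx_mono c' h)))

/-- Reindexing back and forth gives the identity. -/
theorem nonempty_unit (hc1 : 1 ≤ c) (hc1' : 1 ≤ c')
    (hc : ∀ (n : ℕ) (M : X.Modules), Coh.IsQCoh M → Formal.KilledBy (J ^ n) M →
      Formal.KilledBy (I ^ (c * n)) M)
    (hc' : ∀ (n : ℕ) (M : X.Modules), Coh.IsQCoh M → Formal.KilledBy (I ^ n) M →
      Formal.KilledBy (J ^ (c' * n)) M) :
    Nonempty (𝟭 _ ≅ tFunctor c hc1 hc ⋙ tFunctor c' hc1' hc') := by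
  have hle : ∀ n, n ≤ idx c (idx c' n) := fun n => (le_idx c' hc1' n).trans (le_idx c hc1 _)
  have key : ∀ (G : Formal2.CohFormalCat I X), ∃ θ : tSys I c' (tSys J c G.obj) ≅ G.obj,
      ∀ n, qq J c c' I G.obj n ≫ θ.hom.app (op n) = ARSys.tr G.obj (hle n) := by
    intro G
    have hq := fun n => qq_isModQuot (c := c) hc1' hc' G.property n
    have ht := fun n => AlgzCohLib.tr_isModQuot G.property (hle n)
    choose f hf using fun n => (hq n).factor _ (ARSys.tr G.obj (hle n)) (ht n).killed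
    choose f' hf' using fun n => (ht n).factor _ (qq J c c' I G.obj n) (hq n).killed
    let e : ∀ n : ℕᵒᵖ, (tSys I c' (tSys J c G.obj)).obj n ≅ G.obj.obj n := fun n =>
      { hom := f n.unop
        inv := f' n.unop
        hom_inv_id := by
          apply (cancel_epi (qq J c c' I G.obj n.unop)).1
          rw [← Category.assoc, hf, hf']
          exact (Category.comp_id _).symm
        inv_hom_id := by
          have := (ht n.unop).epi
          apply (cancel_epi (ARSys.tr G.obj (hle n.unop))).1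
          rw [← Category.assoc, hf', hf]
          exact (Category.comp_id _).symm }
    refine ⟨NatIso.ofComponents e fun {i j} φ => ?_, fun n => hf n⟩
    obtain ⟨m⟩ := i
    obtain ⟨n⟩ := j
    have hφ : φ = (homOfLE (leOfHom φ.unop)).op := Quiver.Hom.unop_inj (Subsingleton.elim _ _)
    generalize leOfHom φ.unop = hnm at hφ
    subst hφ
    apply (cancel_epi (qq J c c' I G.obj m)).1
    change qq J c c' I G.obj m ≫ _ ≫ f n = qq J c c' I G.obj m ≫ f m ≫ _
    rw [← Category.assoc, qq_tr G.obj hnm, Category.assoc, hf, ← Category.assoc (qq J c c' I G.obj m), hf,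
      AlgzCohLib.tr_comp]
    exact (AlgzCohLib.tr_comp hnm (hle m)).symm
  choose θ hθ using key
  refine ⟨(NatIso.ofComponents (fun G => ObjectProperty.isoMk _ (θ G)) fun {G H} α => ?_).symm⟩
  refine ObjectProperty.hom_ext _ ?_
  ext ⟨n⟩ : 2
  apply (cancel_epi (qq J c c' I G.obj n)).1
  change qq J c c' I G.obj n ≫ (tMap I c' (tMap J c α.hom)).app (op n) ≫ (θ H).hom.app (op n) =
    qq J c c' I G.obj n ≫ (θ G).hom.app (op n) ≫ α.hom.app (op n)
  have h1 : qq J c c' I G.obj n ≫ (tMap I c' (tMap J c α.hom)).app (op n) =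
      α.hom.app (op (idx c (idx c' n))) ≫ qq J c c' I H.obj n := by
    rw [qq, qq, Category.assoc, tMap_app, reassoc_of% (tMap_app J c α.hom (idx c' n))]
  rw [← Category.assoc, h1, Category.assoc, hθ, ← Category.assoc, hθ]
  exact (α.hom.naturality _).symm

theorem nonempty_equivalence (hV : ∀ x : X,
      x ∈ (fun x : X => (X ↘ Spec (CommRingCat.of A)) x) ⁻¹' PrimeSpectrum.zeroLocus (I : Set A) ↔
      x ∈ (fun x : X => (X ↘ Spec (CommRingCat.of A)) x) ⁻¹' PrimeSpectrum.zeroLocus (J : Set A)) :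
    Nonempty (Formal2.CohFormalCat I X ≌ Formal2.CohFormalCat J X) := by
  obtain ⟨c, hc1, hc⟩ := exists_exp (I := I) (J := J) fun x => (hV x).2
  obtain ⟨c', hc1', hc'⟩ := exists_exp (I := J) (J := I) fun x => (hV x).1
  exact ⟨CategoryTheory.Equivalence.mk (tFunctor c hc1 hc) (tFunctor c' hc1' hc')
    (nonempty_unit hc1 hc1' hc hc').some (nonempty_unit hc1' hc1 hc' hc).some.symm⟩

end FormalEqLib

end
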